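import Groth.Agent.EllIso2.Rel
import Groth.Agent.WE91.LocalIntegral

/-!
# Elliptic curves with the same `j` over a complete local domain with algebraically closed residue field
-/

set_option autoImplicit false
set_option linter.style.haveILetI false

universe u

open WeierstrassCurve IsLocalRing

namespace Groth.Agent.EllIso2

theorem henselianLocalRing_of_isAdicComplete (R : Type u) [CommRing R] [IsLocalRing R]
    [IsAdicComplete (maximalIdeal R) R] : HenselianLocalRing R where
  is_henselian f hf a₀ h1 h2 :=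
    haveI : HenselianRing R (maximalIdeal R) := inferInstance
    HenselianRing.is_henselian f hf a₀ h1 (h2.map _)

theorem change_ext {R : Type u} [CommRing R] {C C' : VariableChange R} (hu : (C.u : R) = C'.u)
    (hr : C.r = C'.r) (hs : C.s = C'.s) (ht : C.t = C'.t) : C = C' := by
  obtain ⟨u, r, s, t⟩ := C
  obtain ⟨u', r', s', t'⟩ := C'
  obtain rfl := Units.ext hu
  simp only at hr hs ht
  subst hr hs ht
  rfl

theorem exists_variableChange_of_j_eq (R : Type u) [CommRing R] [IsDomain R] [IsLocalRing R]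
    [HenselianLocalRing R] [IsAlgClosed (ResidueField R)]
    (W₁ W₂ : WeierstrassCurve R) [W₁.IsElliptic] [W₂.IsElliptic] (hj : W₁.j = W₂.j) :
    ∃ C : VariableChange R, C • W₁ = W₂ := by
  classical
  let K := AlgebraicClosure (FractionRing R)
  have hinjK : Function.Injective (algebraMap R K) := by
    rw [IsScalarTower.algebraMap_eq R (FractionRing R) K]
    exact (algebraMap (FractionRing R) K).injective.comp (IsFractionRing.injective R (FractionRing R))
  obtain ⟨CK, hCK⟩ := WeierstrassCurve.exists_variableChange_of_j_eq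
    (W₁.map (algebraMap R K)) (W₂.map (algebraMap R K)) (by rw [map_j, map_j, hj])
  obtain ⟨iu, ir, is, it⟩ := isIntegral_of_smul_map W₁ W₂ CK hCK
  let S : Set K := {(CK.u : K), CK.r, CK.s, CK.t}
  let B := Algebra.adjoin R S
  haveI : Module.Finite R B := by
    refine Module.Finite.iff_fg.2 (fg_adjoin_of_finite (Set.toFinite _) ?_)
    rintro x (rfl | rfl | rfl | rfl) <;> assumption
  haveI : Algebra.IsIntegral R B := Algebra.IsIntegral.of_finite R B
  haveI : IsLocalRing B := WE91.isLocalRing_of_isIntegral_of_isDomain R B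
  have hinj : Function.Injective (algebraMap R B) := fun x y h =>
    hinjK (congrArg (Subtype.val : B → K) h)
  let uB : B := ⟨CK.u, Algebra.subset_adjoin (by simp [S])⟩
  have huB : IsUnit uB := by
    have h1 := eq_Δ CK (W₁.map (algebraMap R K))
    rw [hCK, map_Δ, map_Δ] at h1
    have h2 : uB ^ 12 * algebraMap R B W₂.Δ = algebraMap R B W₁.Δ := Subtype.ext h1
    have h3 : IsUnit (uB ^ 12 * algebraMap R B W₂.Δ) := h2 ▸ W₁.isUnit_Δ.map _
    exact (isUnit_pow_iff (by norm_num)).1 (isUnit_of_mul_isUnit_left h3)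
  let CB : VariableChange B := ⟨huB.unit, ⟨CK.r, Algebra.subset_adjoin (by simp [S])⟩,
    ⟨CK.s, Algebra.subset_adjoin (by simp [S])⟩, ⟨CK.t, Algebra.subset_adjoin (by simp [S])⟩⟩
  have hCBK : CB.map B.val.toRingHom = CK := change_ext rfl rfl rfl rfl
  have hCB : CB • W₁.map (algebraMap R B) = W₂.map (algebraMap R B) := by
    apply WeierstrassCurve.map_injective (f := B.val.toRingHom) Subtype.val_injective
    show (CB • W₁.map (algebraMap R B)).map B.val.toRingHom = (W₂.map (algebraMap R B)).map B.val.toRingHom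
    rw [← map_variableChange, hCBK, WeierstrassCurve.map_map, WeierstrassCurve.map_map]
    exact hCK
  -- the residue field of `B` is that of `R`
  let κB := ResidueField B
  haveI : IsLocalHom (algebraMap R B) := (algebraMap_isIntegral_iff.2 inferInstance).isLocalHom hinj
  haveI : Algebra.IsIntegral (ResidueField R) κB := by
    refine ⟨fun x => ?_⟩
    obtain ⟨x, rfl⟩ := residue_surjective x
    exact ((Algebra.IsIntegral.isIntegral (R := R) x).map (IsScalarTower.toAlgHom R B κB)).tower_top
  have hres : ∀ b : B, ∃ a : R, b - algebraMap R B a ∈ maximalIdeal B := fun b => by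
    obtain ⟨c, hc⟩ := IsAlgClosed.algebraMap_bijective_of_isIntegral (k := ResidueField R) |>.2 (residue B b)
    obtain ⟨a, rfl⟩ := residue_surjective c
    refine ⟨a, ?_⟩
    rw [← residue_eq_zero_iff, map_sub, ← hc, sub_eq_zero]
    rfl
  obtain ⟨u0, hu0⟩ := hres uB
  obtain ⟨r0, hr0⟩ := hres CB.r
  obtain ⟨s0, hs0⟩ := hres CB.s
  obtain ⟨t0, ht0⟩ := hres CB.t
  have hu0' : IsUnit u0 := by
    by_contra h
    have h1 : algebraMap R B u0 ∈ maximalIdeal B := fun h' => h (isUnit_of_map_unit (algebraMap R B) _ h')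
    have h2 := add_mem hu0 h1
    rw [sub_add_cancel] at h2
    exact h2 huB
  let C0 : VariableChange R := ⟨hu0'.unit, r0, s0, t0⟩
  let V := C0 • W₁
  let C' : VariableChange B := CB * (C0.map (algebraMap R B))⁻¹
  have hC' : C' • V.map (algebraMap R B) = W₂.map (algebraMap R B) := by
    show C' • (C0 • W₁).map (algebraMap R B) = _
    rw [← map_variableChange, ← mul_smul, inv_mul_cancel_right, hCB]
  let a : B := (C'.u : B) - 1
  let n : Ideal B := Ideal.span {a, C'.r, C'.s, C'.t}
  let m := maximalIdeal R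
  let mB : Ideal B := m.map (algebraMap R B)
  have hred : ∀ {T : Type u} [CommRing T] (π : B →+* T), π a = 0 → π C'.r = 0 → π C'.s = 0 → π C'.t = 0 →
      CB.map π = C0.map (π.comp (algebraMap R B)) := by
    intro T _ π ha hr hs ht
    have h1 : C'.map π = 1 := change_ext (by
        show π (C'.u : B) = (1 : T)
        rw [← sub_eq_zero, ← map_one π, ← map_sub]; exact ha) hr hs ht
    have h2 : C' * C0.map (algebraMap R B) = CB := inv_mul_cancel_right _ _
    calc CB.map π = (C' * C0.map (algebraMap R B)).map π := by rw [h2]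
      _ = C'.map π * (C0.map (algebraMap R B)).map π := map_mul (VariableChange.mapHom π) _ _
      _ = C0.map (π.comp (algebraMap R B)) := by rw [h1, one_mul]; rfl
  have hCB0 : CB.map (residue B) = (C0.map (algebraMap R B)).map (residue B) := change_ext
    (sub_eq_zero.1 (by rw [← residue_eq_zero_iff, map_sub] at hu0; exact hu0))
    (sub_eq_zero.1 (by rw [← residue_eq_zero_iff, map_sub] at hr0; exact hr0))
    (sub_eq_zero.1 (by rw [← residue_eq_zero_iff, map_sub] at hs0; exact hs0))
    (sub_eq_zero.1 (by rw [← residue_eq_zero_iff, map_sub] at ht0; exact ht0))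
  have hC'1 : C'.map (residue B) = 1 := by
    show VariableChange.mapHom (residue B) C' = 1
    rw [map_mul, map_inv, mul_inv_eq_one]
    exact hCB0
  have hn : n ≤ maximalIdeal B := by
    rw [Ideal.span_le]
    have h1 := congrArg (fun C => ((VariableChange.u C : (κB)ˣ) : κB)) hC'1
    have h2 := congrArg VariableChange.r hC'1
    have h3 := congrArg VariableChange.s hC'1
    have h4 := congrArg VariableChange.t hC'1
    rintro x (rfl | rfl | rfl | rfl) <;> rw [SetLike.mem_coe, ← residue_eq_zero_iff]
    · show residue B ((C'.u : B) - 1) = 0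
      rw [map_sub, map_one, sub_eq_zero]; exact h1
    · exact h2
    · exact h3
    · exact h4
  have hVW : V.map (residue R) = W₂.map (residue R) := by
    apply WeierstrassCurve.map_injective (f := algebraMap (ResidueField R) κB) (RingHom.injective _)
    show (V.map (residue R)).map _ = (W₂.map (residue R)).map _
    rw [WeierstrassCurve.map_map, WeierstrassCurve.map_map]
    have h1 := congrArg (fun W => WeierstrassCurve.map W (residue B)) hC'
    simp only [← map_variableChange, hC'1, one_smul, WeierstrassCurve.map_map] at h1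
    exact h1
  let I : Ideal B := mB ⊔ n * n
  let Q := B ⧸ I
  let πQ : B →+* Q := Ideal.Quotient.mk I
  let ρ : R →+* Q := πQ.comp (algebraMap R B)
  have hρm : ∀ x ∈ m, ρ x = 0 := fun x hx =>
    Ideal.Quotient.eq_zero_iff_mem.2 (Ideal.mem_sup_left (Ideal.mem_map_of_mem _ hx))
  have hdich : ∀ x : R, IsUnit (ρ x) ∨ ρ x = 0 := fun x => by
    by_cases hx : IsUnit x
    · exact Or.inl (hx.map ρ)
    · exact Or.inr (hρm x hx)
  have hW : W₂.map ρ = V.map ρ := by
    have hlift : ∀ x y : R, residue R x = residue R y → ρ x = ρ y := fun x y h => by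
      rw [← sub_eq_zero, ← map_sub]
      exact hρm _ (by rw [← residue_eq_zero_iff, map_sub, h, sub_self])
    ext
    · exact hlift _ _ (congrArg WeierstrassCurve.a₁ hVW).symm
    · exact hlift _ _ (congrArg WeierstrassCurve.a₂ hVW).symm
    · exact hlift _ _ (congrArg WeierstrassCurve.a₃ hVW).symm
    · exact hlift _ _ (congrArg WeierstrassCurve.a₄ hVW).symm
    · exact hlift _ _ (congrArg WeierstrassCurve.a₆ hVW).symm
  let CQ := C'.map πQ
  have hCQ : CQ • V.map ρ = V.map ρ := by
    rw [← hW]
    have h1 := congrArg (fun W => WeierstrassCurve.map W πQ) hC'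
    simp only [← map_variableChange, WeierstrassCurve.map_map] at h1
    rw [hW]
    exact h1.trans hW
  let aq : Q := πQ a
  have hu : (CQ.u : Q) = 1 + aq := by
    show πQ (C'.u : B) = 1 + πQ ((C'.u : B) - 1)
    rw [map_sub, map_one]; ring
  have hz : ∀ x y : B, x ∈ n → y ∈ n → πQ x * πQ y = 0 := fun x y hx hy => by
    rw [← map_mul]
    exact Ideal.Quotient.eq_zero_iff_mem.2 (Ideal.mem_sup_right (Ideal.mul_mem_mul hx hy))
  have han : a ∈ n := Ideal.subset_span (by simp)
  have hrn : C'.r ∈ n := Ideal.subset_span (by simp)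
  have hsn : C'.s ∈ n := Ideal.subset_span (by simp)
  have htn : C'.t ∈ n := Ideal.subset_span (by simp)
  have haa : aq * aq = 0 := hz _ _ han han
  have hss : CQ.s * CQ.s = 0 := hz _ _ hsn hsn
  have hrr : CQ.r * CQ.r = 0 := hz _ _ hrn hrn
  have hrs : CQ.r * CQ.s = 0 := hz _ _ hrn hsn
  have hst : CQ.s * CQ.t = 0 := hz _ _ hsn htn
  have htt : CQ.t * CQ.t = 0 := hz _ _ htn htn
  have hrt : CQ.r * CQ.t = 0 := hz _ _ hrn htn
  have e1 := eq_a₁ CQ (V.map ρ)
  have e2 := eq_a₂ CQ (V.map ρ)
  have e3 := eq_a₃ CQ (V.map ρ)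
  have e4 := eq_a₄ CQ (V.map ρ)
  have e6 := eq_a₆ CQ (V.map ρ)
  simp only [hCQ, hu] at e1 e2 e3 e4 e6
  have hsix : ((2 : Q) = 0 ∧ (IsUnit (V.map ρ).a₁ ∨ (V.map ρ).a₁ = 0)) ∨
      ((3 : Q) = 0 ∧ (IsUnit (V.map ρ).b₂ ∨ (V.map ρ).b₂ = 0)) ∨ IsUnit (6 : Q) := by
    rcases hdich 2 with h2 | h2
    · rcases hdich 3 with h3 | h3
      · rw [map_ofNat] at h2 h3
        exact Or.inr (Or.inr (by rw [show (6 : Q) = 2 * 3 by norm_num]; exact h2.mul h3))
      · rw [map_ofNat] at h3
        exact Or.inr (Or.inl ⟨h3, by rw [map_b₂]; exact hdich _⟩)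
    · rw [map_ofNat] at h2
      exact Or.inl ⟨h2, by rw [map_a₁]; exact hdich _⟩
  obtain ⟨za, zr, zs, zt⟩ := infinitesimal_eq_zero (V.map ρ)
    (by rw [map_Δ]; exact V.isUnit_Δ.map ρ) hsix aq CQ.r CQ.s CQ.t
    (by linear_combination e1)
    (by linear_combination e2 - (V.map ρ).a₂ * haa - hss)
    (by linear_combination e3 - (V.map ρ).a₃ * (3 + aq) * haa)
    (by linear_combination e4 - (V.map ρ).a₄ * (6 + 4 * aq + aq ^ 2) * haa - (V.map ρ).a₁ * hrs + 3 * hrr - 2 * hst)
    (by linear_combination e6 - (V.map ρ).a₆ * (15 + 20 * aq + 15 * aq ^ 2 + 6 * aq ^ 3 + aq ^ 4) * haa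
      + (V.map ρ).a₂ * hrr + CQ.r * hrr - htt - (V.map ρ).a₁ * hrt)
  have hnI : n ≤ I := by
    rw [Ideal.span_le]
    rintro x (rfl | rfl | rfl | rfl) <;> rw [SetLike.mem_coe, ← Ideal.Quotient.eq_zero_iff_mem]
    exacts [za, zr, zs, zt]
  have hnm : n ≤ mB :=
    Submodule.le_of_le_smul_of_le_jacobson_bot (Submodule.fg_span (Set.toFinite _))
      (by rw [IsLocalRing.jacobson_eq_maximalIdeal _ bot_ne_top]; exact hn) hnI
  -- hence `B = R`
  have hsurj : Function.Surjective (algebraMap R B) := by
    have hrange : ∀ b : B, ∃ x : R, b - algebraMap R B x ∈ mB := by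
      let T := B ⧸ mB
      let π : B →ₐ[R] T := Ideal.Quotient.mkₐ R mB
      have h0 : ∀ x ∈ n, π x = 0 := fun x hx => Ideal.Quotient.eq_zero_iff_mem.2 (hnm hx)
      have h1 := hred π.toRingHom (h0 _ han) (h0 _ hrn) (h0 _ hsn) (h0 _ htn)
      let P : Subalgebra R B := (Algebra.ofId R T).range.comap π
      have hgen : ∀ x : B, (x : K) ∈ S → x ∈ P := by
        rintro x (hx | hx | hx | hx)
        · refine ⟨u0, ?_⟩
          have := congrArg (fun C => ((VariableChange.u C : Tˣ) : T)) h1
          rw [show x = uB from Subtype.ext hx]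
          exact this.symm
        · refine ⟨r0, ?_⟩
          rw [show x = CB.r from Subtype.ext hx]
          exact (congrArg VariableChange.r h1).symm
        · refine ⟨s0, ?_⟩
          rw [show x = CB.s from Subtype.ext hx]
          exact (congrArg VariableChange.s h1).symm
        · refine ⟨t0, ?_⟩
          rw [show x = CB.t from Subtype.ext hx]
          exact (congrArg VariableChange.t h1).symm
      intro b
      have hb : B.val b ∈ P.map B.val :=
        (Algebra.adjoin_le (S := P.map B.val) fun y hy =>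
          ⟨⟨y, Algebra.subset_adjoin hy⟩, hgen _ hy, rfl⟩) b.2
      obtain ⟨b', ⟨x, hx⟩, hb'⟩ := hb
      obtain rfl : b' = b := Subtype.ext hb'
      refine ⟨x, Ideal.Quotient.eq_zero_iff_mem.1 ?_⟩
      show π (b' - algebraMap R B x) = 0
      rw [map_sub, AlgHom.commutes, sub_eq_zero]
      exact hx.symm
    show Function.Surjective (Algebra.linearMap R B)
    rw [← LinearMap.range_eq_top, eq_top_iff]
    refine Submodule.le_of_le_smul_of_le_jacobson_bot (I := m) Module.Finite.fg_top
      (by rw [IsLocalRing.jacobson_eq_maximalIdeal _ bot_ne_top]) fun b _ => ?_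
    obtain ⟨x, hx⟩ := hrange b
    refine Submodule.mem_sup.2 ⟨algebraMap R B x, ⟨x, rfl⟩, b - algebraMap R B x, ?_, add_sub_cancel _ _⟩
    rw [Ideal.smul_top_eq_map]
    exact hx
  let e : R ≃+* B := RingEquiv.ofBijective (algebraMap R B) ⟨hinj, hsurj⟩
  refine ⟨CB.map e.symm.toRingHom, WeierstrassCurve.map_injective (f := algebraMap R B) hinj ?_⟩
  show (CB.map e.symm.toRingHom • W₁).map (algebraMap R B) = _
  rw [← map_variableChange, VariableChange.map_map,
    show (algebraMap R B).comp e.symm.toRingHom = RingHom.id B from RingHom.ext e.apply_symm_apply]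
  exact hCB

end Groth.Agent.EllIso2
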