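import Groth.Agent.EllIso2.Rel
import Groth.Agent.Hensel20.Jacobian

/-!
# Isomorphisms of elliptic curves etale locally, away from `j = 0, 1728`
-/

set_option autoImplicit false
set_option linter.style.haveILetI false

universe u

open WeierstrassCurve MvPolynomial

namespace Groth.Agent.EllIso2

section Identities

variable {R : Type u} [CommRing R]

/-- The Jacobian matrix of the first four equations, with an arbitrary first column. -/
def jacMat (W : WeierstrassCurve R) (c₁ c₂ c₃ c₄ r s t : R) : Matrix (Fin 4) (Fin 4) R :=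
  !![c₁, 0, -2, 0;
    c₂, -3, W.a₁ + 2 * s, 0;
    c₃, -W.a₁, 0, -2;
    c₄, -2 * W.a₂ + s * W.a₁ - 6 * r, W.a₃ + r * W.a₁ + 2 * t, W.a₁ + 2 * s]

theorem mul_det_jacMat (W : WeierstrassCurve R) (u c₁ c₂ c₃ c₄ r s t : R) :
    u * (jacMat W c₁ c₂ c₃ c₄ r s t).det = (jacMat W (u * c₁) (u * c₂) (u * c₃) (u * c₄) r s t).det := by
  simp [jacMat, Matrix.det_succ_row_zero, Fin.sum_univ_succ, Fin.succAbove]
  ring

/-- The translate of `W` by `(1, r, s, t)`. -/
def shift (W : WeierstrassCurve R) (r s t : R) : WeierstrassCurve R :=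
  (⟨1, r, s, t⟩ : VariableChange R) • W

theorem det_jacMat_shift (W : WeierstrassCurve R) (r s t : R) :
    (jacMat W (shift W r s t).a₁ (2 * (shift W r s t).a₂) (3 * (shift W r s t).a₃)
      (4 * (shift W r s t).a₄) r s t).det = W.c₄ := by
  simp [jacMat, shift, variableChange_a₁, variableChange_a₂, variableChange_a₃, variableChange_a₄,
    Matrix.det_succ_row_zero, Fin.sum_univ_succ, Fin.succAbove, WeierstrassCurve.c₄, b₂, b₄]
  ring

theorem Δ_sub_of_eq (V V' : WeierstrassCurve R) (h1 : V'.a₁ = V.a₁) (h2 : V'.a₂ = V.a₂)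
    (h3 : V'.a₃ = V.a₃) (h4 : V'.a₄ = V.a₄) :
    V'.Δ - V.Δ = (V'.a₆ - V.a₆) * (V.c₆ - 432 * (V'.a₆ - V.a₆)) := by
  simp only [WeierstrassCurve.Δ, WeierstrassCurve.c₆, b₂, b₄, b₆, b₈, h1, h2, h3, h4]
  ring

theorem isUnit_c₄ (W : WeierstrassCurve R) [W.IsElliptic] (h0 : IsUnit W.j) : IsUnit W.c₄ := by
  rw [WeierstrassCurve.j] at h0
  exact (isUnit_pow_iff (by norm_num)).1 (isUnit_of_mul_isUnit_right h0)

theorem isUnit_c₆ (W : WeierstrassCurve R) [W.IsElliptic] (h : IsUnit (W.j - 1728)) : IsUnit W.c₆ := by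
  have h1 : W.c₆ ^ 2 = W.Δ * (W.j - 1728) := by
    rw [WeierstrassCurve.j, mul_sub, ← mul_assoc, ← W.coe_Δ', Units.mul_inv, one_mul, W.coe_Δ']
    linear_combination W.c_relation
  exact (isUnit_pow_iff (by norm_num : (2 : ℕ) ≠ 0)).1 (h1 ▸ W.isUnit_Δ.mul h)

end Identities

variable {A : Type u} [CommRing A]

/-- The four equations. -/
noncomputable def eqs (W W' : WeierstrassCurve A) : Fin 4 → MvPolynomial (Fin 4) A :=
  ![X 0 * C W'.a₁ - (C W.a₁ + 2 * X 2),
    X 0 ^ 2 * C W'.a₂ - (C W.a₂ - X 2 * C W.a₁ + 3 * X 1 - X 2 ^ 2),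
    X 0 ^ 3 * C W'.a₃ - (C W.a₃ + X 1 * C W.a₁ + 2 * X 3),
    X 0 ^ 4 * C W'.a₄ - (C W.a₄ - X 2 * C W.a₃ + 2 * X 1 * C W.a₂ - (X 3 + X 1 * X 2) * C W.a₁
      + 3 * X 1 ^ 2 - 2 * X 2 * X 3)]

theorem jac_eqs (W W' : WeierstrassCurve A) {B : Type u} [CommRing B] [Algebra A B] (x : Fin 4 → B) :
    Hensel20.jac (eqs W W') x = jacMat (W.map (algebraMap A B)) (algebraMap A B W'.a₁)
      (2 * x 0 * algebraMap A B W'.a₂) (3 * x 0 ^ 2 * algebraMap A B W'.a₃)
      (4 * x 0 ^ 3 * algebraMap A B W'.a₄) (x 1) (x 2) (x 3) := by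
  ext i j
  fin_cases i <;> fin_cases j <;>
    simp [Hensel20.jac, eqs, jacMat, pderiv_mul, pderiv_X, pderiv_pow, Pi.single_apply, map_ofNat,
      Matrix.cons_val', Matrix.of_apply, show ∀ n : ℕ, ∀ k : Fin 4,
        pderiv k (OfNat.ofNat (n + 2) : MvPolynomial (Fin 4) A) = 0 from fun n k => by
          rw [← map_ofNat (MvPolynomial.C : A →+* MvPolynomial (Fin 4) A)]; exact pderiv_C] <;> ring

theorem shift_a_of_eqs (W W' : WeierstrassCurve A) {B : Type u} [CommRing B] [Algebra A B] (x : Fin 4 → B)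
    (h : ∀ j, aeval x (eqs W W' j) = 0) :
    let V := shift (W.map (algebraMap A B)) (x 1) (x 2) (x 3)
    x 0 * algebraMap A B W'.a₁ = V.a₁ ∧ x 0 ^ 2 * algebraMap A B W'.a₂ = V.a₂ ∧
      x 0 ^ 3 * algebraMap A B W'.a₃ = V.a₃ ∧ x 0 ^ 4 * algebraMap A B W'.a₄ = V.a₄ := by
  have h0 := h 0
  have h1 := h 1
  have h2 := h 2
  have h3 := h 3
  simp [eqs, sub_eq_zero, map_ofNat] at h0 h1 h2 h3
  simp [shift, variableChange_a₁, variableChange_a₂, variableChange_a₃, variableChange_a₄, h0, h1, h2, h3]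

theorem mul_det_jac (W W' : WeierstrassCurve A) {B : Type u} [CommRing B] [Algebra A B] (x : Fin 4 → B)
    (h : ∀ j, aeval x (eqs W W' j) = 0) :
    x 0 * (Hensel20.jac (eqs W W') x).det = algebraMap A B W.c₄ := by
  obtain ⟨e1, e2, e3, e4⟩ := shift_a_of_eqs W W' x h
  rw [jac_eqs, mul_det_jacMat, show x 0 * (2 * x 0 * algebraMap A B W'.a₂) = 2 * (x 0 ^ 2 * algebraMap A B W'.a₂) by ring,
    show x 0 * (3 * x 0 ^ 2 * algebraMap A B W'.a₃) = 3 * (x 0 ^ 3 * algebraMap A B W'.a₃) by ring,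
    show x 0 * (4 * x 0 ^ 3 * algebraMap A B W'.a₄) = 4 * (x 0 ^ 4 * algebraMap A B W'.a₄) by ring,
    e1, e2, e3, e4, det_jacMat_shift, map_c₄]

theorem exists_etale_nhd (W₁ W₂ : WeierstrassCurve A) [W₁.IsElliptic] [W₂.IsElliptic] (hj : W₁.j = W₂.j)
    (h0 : IsUnit W₁.j) (h1728 : IsUnit (W₁.j - 1728)) (p : PrimeSpectrum A) :
    ∃ (B : Type u) (_ : CommRing B) (_ : Algebra A B), Algebra.Etale A B ∧
      p ∈ Set.range (PrimeSpectrum.comap (algebraMap A B)) ∧
      ∃ C : VariableChange B, C • (W₁.map (algebraMap A B)) = W₂.map (algebraMap A B) := by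
  classical
  let Ω := AlgebraicClosure p.asIdeal.ResidueField
  obtain ⟨CΩ, hCΩ⟩ := WeierstrassCurve.exists_variableChange_of_j_eq
    (W₁.map (algebraMap A Ω)) (W₂.map (algebraMap A Ω)) (by rw [map_j, map_j, hj])
  let y : Fin 4 → Ω := ![(CΩ.u : Ω), CΩ.r, CΩ.s, CΩ.t]
  have hy : ∀ j, aeval y (eqs W₁ W₂ j) = 0 := by
    have e1 := eq_a₁ CΩ (W₁.map (algebraMap A Ω))
    have e2 := eq_a₂ CΩ (W₁.map (algebraMap A Ω))
    have e3 := eq_a₃ CΩ (W₁.map (algebraMap A Ω))
    have e4 := eq_a₄ CΩ (W₁.map (algebraMap A Ω))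
    simp only [hCΩ, map_a₁, map_a₂, map_a₃, map_a₄] at e1 e2 e3 e4
    intro j
    fin_cases j <;> simp [eqs, y, sub_eq_zero, map_ofNat, e1, e2, e3, e4]
  have hdet : IsUnit (Hensel20.jac (eqs W₁ W₂) y).det :=
    isUnit_of_mul_isUnit_right (x := y 0) (by
      rw [mul_det_jac W₁ W₂ y hy]; exact (isUnit_c₄ W₁ h0).map _)
  obtain ⟨T, _, _, τ, hT, hτ, huniv⟩ := Hensel20.exists_etale_of_jacobian (eqs W₁ W₂)
  haveI := hT
  obtain ⟨ev, hev⟩ := huniv Ω y hy hdet
  let V := shift (W₁.map (algebraMap A T)) (τ 1) (τ 2) (τ 3)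
  let D : T := τ 0 ^ 6 * algebraMap A T W₂.a₆ - V.a₆
  let g : T := τ 0 * (V.c₆ - 432 * D)
  have hyD : ev D = 0 := by
    have e6 := eq_a₆ CΩ (W₁.map (algebraMap A Ω))
    simp only [hCΩ, map_a₁, map_a₂, map_a₃, map_a₄, map_a₆] at e6
    simp [D, V, shift, variableChange_a₆, hev, y]
    linear_combination e6
  have hVev : V.map ev.toRingHom = shift (W₁.map (algebraMap A Ω)) CΩ.r CΩ.s CΩ.t := by
    show ((⟨1, τ 1, τ 2, τ 3⟩ : VariableChange T) • W₁.map (algebraMap A T)).map ev.toRingHom = _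
    rw [← map_variableChange, WeierstrassCurve.map_map, ev.toRingHom_eq_coe, AlgHom.comp_algebraMap]
    congr 1
    exact change_ext' (by simp [VariableChange.map]) (by simp [VariableChange.map, hev, y])
      (by simp [VariableChange.map, hev, y]) (by simp [VariableChange.map, hev, y])
  have hg : IsUnit (ev g) := by
    have h1 : ev V.c₆ = algebraMap A Ω W₁.c₆ := by
      have := congrArg WeierstrassCurve.c₆ hVev
      rw [map_c₆] at this
      refine this.trans ?_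
      rw [shift, variableChange_c₆]
      simp
    rw [map_mul, map_sub, map_mul, hyD, mul_zero, sub_zero, h1, hev]
    exact CΩ.u.isUnit.mul ((isUnit_c₆ W₁ h1728).map _)
  let B := Localization.Away g
  haveI : Algebra.Etale T B := Algebra.Etale.of_isLocalizationAway g
  haveI : Algebra.Etale A B := Algebra.Etale.comp A T B
  refine ⟨B, inferInstance, inferInstance, inferInstance, ?_, ?_⟩
  · let evB : B →ₐ[A] Ω := IsLocalization.liftAlgHom (M := Submonoid.powers g) (f := ev) (by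
      rintro ⟨_, i, rfl⟩
      rw [map_pow]
      exact hg.pow i)
    refine ⟨⟨RingHom.ker evB.toRingHom, RingHom.ker_isPrime _⟩, PrimeSpectrum.ext ?_⟩
    show (RingHom.ker evB.toRingHom).comap (algebraMap A B) = p.asIdeal
    rw [RingHom.comap_ker, evB.toRingHom_eq_coe, AlgHom.comp_algebraMap,
      IsScalarTower.algebraMap_eq A p.asIdeal.ResidueField Ω,
      RingHom.ker_comp_of_injective _ (algebraMap p.asIdeal.ResidueField Ω).injective,
      Ideal.ker_algebraMap_residueField]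
  · let φ : T →ₐ[A] B := IsScalarTower.toAlgHom A T B
    let z : Fin 4 → B := fun k => φ (τ k)
    have hz : ∀ j, aeval z (eqs W₁ W₂ j) = 0 := fun j => by
      rw [← Hensel20.jac_map.aux, hτ, map_zero]
    obtain ⟨e1, e2, e3, e4⟩ := shift_a_of_eqs W₁ W₂ z hz
    have hgu : IsUnit (φ g) := IsLocalization.Away.algebraMap_isUnit g
    have hz0 : IsUnit (z 0) := isUnit_of_mul_isUnit_left (by rw [map_mul] at hgu; exact hgu)
    let V₁ := shift (W₁.map (algebraMap A B)) (z 1) (z 2) (z 3)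
    let V₂ := (⟨hz0.unit⁻¹, 0, 0, 0⟩ : VariableChange B) • W₂.map (algebraMap A B)
    have q1 : V₂.a₁ = V₁.a₁ := by rw [← e1]; simp [V₂, variableChange_a₁]
    have q2 : V₂.a₂ = V₁.a₂ := by rw [← e2]; simp [V₂, variableChange_a₂]
    have q3 : V₂.a₃ = V₁.a₃ := by rw [← e3]; simp [V₂, variableChange_a₃]
    have q4 : V₂.a₄ = V₁.a₄ := by rw [← e4]; simp [V₂, variableChange_a₄]
    have hV : V.map φ.toRingHom = V₁ := by
      show ((⟨1, τ 1, τ 2, τ 3⟩ : VariableChange T) • W₁.map (algebraMap A T)).map φ.toRingHom = _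
      rw [← map_variableChange, WeierstrassCurve.map_map, φ.toRingHom_eq_coe, AlgHom.comp_algebraMap]
      congr 1
      exact change_ext' (by simp [VariableChange.map]) rfl rfl rfl
    have hD : φ D = V₂.a₆ - V₁.a₆ := by
      rw [map_sub, ← congrArg WeierstrassCurve.a₆ hV]
      congr 1
      simp [V₂, variableChange_a₆, z]
    haveI : V₁.IsElliptic := by
      show WeierstrassCurve.IsElliptic ((⟨1, z 1, z 2, z 3⟩ : VariableChange B) • W₁.map (algebraMap A B)); infer_instance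
    have hc : V₂.c₄ = V₁.c₄ := by
      simp only [WeierstrassCurve.c₄, b₂, b₄, q1, q2, q3, q4]
    have hjV : V₂.j = V₁.j := by
      show ((⟨hz0.unit⁻¹, 0, 0, 0⟩ : VariableChange B) • W₂.map (algebraMap A B)).j =
        ((⟨1, z 1, z 2, z 3⟩ : VariableChange B) • W₁.map (algebraMap A B)).j
      rw [variableChange_j, variableChange_j, map_j, map_j, hj]
    have hΔ : V₂.Δ = V₁.Δ := by
      have hu : IsUnit (V₁.c₄ ^ 3) := by
        refine IsUnit.pow 3 ?_
        show IsUnit (((⟨1, z 1, z 2, z 3⟩ : VariableChange B) • W₁.map (algebraMap A B)).c₄)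
        rw [variableChange_c₄, map_c₄]
        simpa using (isUnit_c₄ W₁ h0).map (algebraMap A B)
      rw [WeierstrassCurve.j, WeierstrassCurve.j, hc] at hjV
      have h2 := hu.mul_right_cancel hjV
      rw [← V₂.coe_Δ', ← V₁.coe_Δ', Units.val_inj, ← inv_inj, Units.ext h2]
    have hfac := Δ_sub_of_eq V₁ V₂ q1 q2 q3 q4
    rw [hΔ, sub_self] at hfac
    have hu6 : IsUnit (V₁.c₆ - 432 * (V₂.a₆ - V₁.a₆)) := by
      rw [map_mul, map_sub, map_mul, hD, map_ofNat] at hgu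
      rw [← congrArg WeierstrassCurve.c₆ hV, map_c₆]
      exact isUnit_of_mul_isUnit_right hgu
    have q6 : V₂.a₆ = V₁.a₆ := sub_eq_zero.1 (hu6.mul_left_eq_zero.1 hfac.symm)
    refine ⟨(⟨hz0.unit⁻¹, 0, 0, 0⟩ : VariableChange B)⁻¹ * ⟨1, z 1, z 2, z 3⟩, ?_⟩
    rw [mul_smul, inv_smul_eq_iff]
    exact (WeierstrassCurve.ext q1 q2 q3 q4 q6).symm
where
  change_ext' {R : Type u} [CommRing R] {C C' : VariableChange R} (hu : (C.u : R) = C'.u)
      (hr : C.r = C'.r) (hs : C.s = C'.s) (ht : C.t = C'.t) : C = C' := by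
    obtain ⟨u, r, s, t⟩ := C
    obtain ⟨u', r', s', t'⟩ := C'
    obtain rfl := Units.ext hu
    simp only at hr hs ht
    subst hr hs ht
    rfl

end Groth.Agent.EllIso2
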