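import Mathlib

/-!
# Changes of variables between Weierstrass curves: equations, integrality, rigidity
-/

set_option autoImplicit false

universe u

open WeierstrassCurve

namespace Groth.Agent.EllIso2

variable {R : Type u} [CommRing R]

theorem mul_inv_pow_cancel (u : Rˣ) (k : ℕ) (x : R) : (u : R) ^ k * ((↑u⁻¹ : R) ^ k * x) = x := by
  rw [← mul_assoc, ← mul_pow, Units.mul_inv, one_pow, one_mul]

theorem eq_a₁ (C : VariableChange R) (W : WeierstrassCurve R) :
    (C.u : R) * (C • W).a₁ = W.a₁ + 2 * C.s := by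
  rw [variableChange_a₁, ← mul_assoc, Units.mul_inv, one_mul]

theorem eq_a₂ (C : VariableChange R) (W : WeierstrassCurve R) :
    (C.u : R) ^ 2 * (C • W).a₂ = W.a₂ - C.s * W.a₁ + 3 * C.r - C.s ^ 2 := by
  rw [variableChange_a₂, mul_inv_pow_cancel]

theorem eq_a₃ (C : VariableChange R) (W : WeierstrassCurve R) :
    (C.u : R) ^ 3 * (C • W).a₃ = W.a₃ + C.r * W.a₁ + 2 * C.t := by
  rw [variableChange_a₃, mul_inv_pow_cancel]

theorem eq_a₄ (C : VariableChange R) (W : WeierstrassCurve R) :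
    (C.u : R) ^ 4 * (C • W).a₄ = W.a₄ - C.s * W.a₃ + 2 * C.r * W.a₂ - (C.t + C.r * C.s) * W.a₁
      + 3 * C.r ^ 2 - 2 * C.s * C.t := by
  rw [variableChange_a₄, mul_inv_pow_cancel]

theorem eq_a₆ (C : VariableChange R) (W : WeierstrassCurve R) :
    (C.u : R) ^ 6 * (C • W).a₆ = W.a₆ + C.r * W.a₄ + C.r ^ 2 * W.a₂ + C.r ^ 3 - C.t * W.a₃ - C.t ^ 2
      - C.r * C.t * W.a₁ := by
  rw [variableChange_a₆, mul_inv_pow_cancel]

theorem eq_b₆ (C : VariableChange R) (W : WeierstrassCurve R) :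
    (C.u : R) ^ 6 * (C • W).b₆ = W.b₆ + 2 * C.r * W.b₄ + C.r ^ 2 * W.b₂ + 4 * C.r ^ 3 := by
  rw [variableChange_b₆, mul_inv_pow_cancel]

theorem eq_b₈ (C : VariableChange R) (W : WeierstrassCurve R) :
    (C.u : R) ^ 8 * (C • W).b₈ = W.b₈ + 3 * C.r * W.b₆ + 3 * C.r ^ 2 * W.b₄ + C.r ^ 3 * W.b₂ + 3 * C.r ^ 4 := by
  rw [variableChange_b₈, mul_inv_pow_cancel]

theorem eq_Δ (C : VariableChange R) (W : WeierstrassCurve R) :
    (C.u : R) ^ 12 * (C • W).Δ = W.Δ := by
  rw [variableChange_Δ, mul_inv_pow_cancel]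

section Integral

variable {K : Type u} [CommRing K] [Algebra R K]

open Polynomial in
/-- The coefficients of a change of variables between two elliptic curves over `R` are integral. -/
theorem isIntegral_of_smul_map (W₁ W₂ : WeierstrassCurve R) [W₁.IsElliptic] [W₂.IsElliptic]
    (C : VariableChange K) (h : C • W₁.map (algebraMap R K) = W₂.map (algebraMap R K)) :
    IsIntegral R (C.u : K) ∧ IsIntegral R C.r ∧ IsIntegral R C.s ∧ IsIntegral R C.t := by
  set O := integralClosure R K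
  have hC : ∀ x : R, algebraMap R K x ∈ O := fun x => O.algebraMap_mem x
  have step : ∀ (x : K) (q : O[X]), q.Monic → aeval x q = 0 → x ∈ O := fun x q hq hx =>
    isIntegral_trans (R := R) (A := O) x ⟨q, hq, hx⟩
  have hu : (C.u : K) ∈ O := by
    have h1 := eq_Δ C (W₁.map (algebraMap R K))
    rw [h, map_Δ, map_Δ] at h1
    have h2 : (C.u : K) ^ 12 = algebraMap R K (W₁.Δ * ↑W₂.Δ'⁻¹) := by
      rw [map_mul, ← h1, mul_assoc, ← map_mul, ← W₂.coe_Δ', Units.mul_inv, map_one, mul_one]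
    exact IsIntegral.of_pow (by norm_num : 0 < 12) (h2 ▸ hC _)
  have hr : C.r ∈ O := by
    have h6 := eq_b₆ C (W₁.map (algebraMap R K))
    have h8 := eq_b₈ C (W₁.map (algebraMap R K))
    simp only [h, map_b₂, map_b₄, map_b₆, map_b₈] at h6 h8
    let c2 : O := -algebraMap R O W₁.b₄
    let c1 : O := -(algebraMap R O W₁.b₆ + algebraMap R O W₁.b₆ +
      ⟨(C.u : K) ^ 6 * algebraMap R K W₂.b₆, O.mul_mem (O.pow_mem hu 6) (hC _)⟩)
    let c0 : O := ⟨(C.u : K) ^ 8 * algebraMap R K W₂.b₈ - algebraMap R K W₁.b₈,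
      O.sub_mem (O.mul_mem (O.pow_mem hu 8) (hC _)) (hC _)⟩
    refine step _ (X ^ 4 + (Polynomial.C c2 * X ^ 2 + Polynomial.C c1 * X + Polynomial.C c0))
      (monic_X_pow_add (by compute_degree!)) ?_
    simp only [map_add, map_mul, map_pow, aeval_X, aeval_C, map_neg, c2, c1, c0]
    simp only [Subalgebra.algebraMap_eq, Subalgebra.coe_algebraMap, Algebra.algebraMap_self, RingHom.coe_comp]
    simp [map_ofNat]
    linear_combination h8 - C.r * h6
  have hs : C.s ∈ O := by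
    have h2 := eq_a₂ C (W₁.map (algebraMap R K))
    simp only [h, map_a₁, map_a₂] at h2
    let c0 : O := ⟨(C.u : K) ^ 2 * algebraMap R K W₂.a₂ - algebraMap R K W₁.a₂ - 3 • C.r,
      O.sub_mem (O.sub_mem (O.mul_mem (O.pow_mem hu 2) (hC _)) (hC _)) (nsmul_mem hr 3)⟩
    refine step _ (X ^ 2 + (Polynomial.C (algebraMap R O W₁.a₁) * X + Polynomial.C c0))
      (monic_X_pow_add (by compute_degree!)) ?_
    simp [c0]
    linear_combination h2
  have ht : C.t ∈ O := by
    have h6 := eq_a₆ C (W₁.map (algebraMap R K))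
    simp only [h, map_a₁, map_a₂, map_a₃, map_a₄, map_a₆] at h6
    let c1 : O := algebraMap R O W₁.a₃ + ⟨C.r, hr⟩ * algebraMap R O W₁.a₁
    let c0 : O := ⟨(C.u : K) ^ 6 * algebraMap R K W₂.a₆, O.mul_mem (O.pow_mem hu 6) (hC _)⟩
      - algebraMap R O W₁.a₆ - ⟨C.r, hr⟩ * algebraMap R O W₁.a₄ - ⟨C.r, hr⟩ ^ 2 * algebraMap R O W₁.a₂
      - ⟨C.r, hr⟩ ^ 3
    refine step _ (X ^ 2 + (Polynomial.C c1 * X + Polynomial.C c0))
      (monic_X_pow_add (by compute_degree!)) ?_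
    simp [c1, c0]
    linear_combination h6
  exact ⟨hu, hr, hs, ht⟩

end Integral

/-- An infinitesimal automorphism of a Weierstrass curve with unit discriminant is trivial. -/
theorem infinitesimal_eq_zero {Q : Type u} [CommRing Q] (W : WeierstrassCurve Q) (hΔ : IsUnit W.Δ)
    (h6 : ((2 : Q) = 0 ∧ (IsUnit W.a₁ ∨ W.a₁ = 0)) ∨ ((3 : Q) = 0 ∧ (IsUnit W.b₂ ∨ W.b₂ = 0)) ∨ IsUnit (6 : Q))
    (a r s t : Q) (e1 : a * W.a₁ = 2 * s) (e2 : 2 * a * W.a₂ = -s * W.a₁ + 3 * r)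
    (e3 : 3 * a * W.a₃ = r * W.a₁ + 2 * t)
    (e4 : 4 * a * W.a₄ = -s * W.a₃ + 2 * r * W.a₂ - t * W.a₁)
    (e6 : 6 * a * W.a₆ = r * W.a₄ - t * W.a₃) :
    a = 0 ∧ r = 0 ∧ s = 0 ∧ t = 0 := by
  rcases h6 with ⟨h2, h⟩ | ⟨h3, h⟩ | h6
  · rcases h with h | h
    · have ha : a = 0 := h.mul_left_eq_zero.1 (by linear_combination e1 + s * h2)
      subst ha
      have hr : r = 0 := h.mul_left_eq_zero.1 (by linear_combination -e3 - t * h2)
      subst hr
      have hs : s = 0 := h.mul_left_eq_zero.1 (by linear_combination e2)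
      subst hs
      exact ⟨rfl, rfl, rfl, h.mul_left_eq_zero.1 (by linear_combination e4)⟩
    · have h3 : IsUnit W.a₃ := by
        refine isUnit_of_dvd_unit ⟨W.a₃ ^ 3, ?_⟩ hΔ
        simp only [WeierstrassCurve.Δ, b₂, b₄, b₆, b₈, h]
        linear_combination (-32 * W.a₂ ^ 2 * (W.a₂ * (W.a₃ ^ 2 + 4 * W.a₆) - W.a₄ ^ 2) - 32 * W.a₄ ^ 3 - 14 * W.a₃ ^ 4
          - 108 * W.a₃ ^ 2 * W.a₆ - 216 * W.a₆ ^ 2 + 36 * W.a₂ * W.a₄ * (W.a₃ ^ 2 + 4 * W.a₆)
          + 24 * W.a₂ ^ 3 * W.a₃ ^ 2 + 96 * W.a₂ ^ 3 * W.a₆ - 24 * W.a₂ ^ 2 * W.a₄ ^ 2) * h2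
      have hr : r = 0 := by linear_combination -e2 + (a * W.a₂ - r) * h2 + s * h
      subst hr
      have ha : a = 0 := h3.mul_left_eq_zero.1 (by linear_combination e3 + (t - a * W.a₃) * h2)
      subst ha
      have hs : s = 0 := h3.mul_left_eq_zero.1 (by linear_combination e4 - t * h)
      subst hs
      exact ⟨rfl, rfl, rfl, h3.mul_left_eq_zero.1 (by linear_combination e6)⟩
  · have hs : s = -(a * W.a₁) := by linear_combination e1 + s * h3
    have ht : t = r * W.a₁ := by linear_combination e3 + (t - a * W.a₃) * h3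
    subst hs ht
    have k2 : a * W.b₂ = 0 := by
      simp only [b₂]
      linear_combination -e2 + (2 * a * W.a₂ - r + 0 * a) * h3
    have k6 : r * W.b₄ = 0 := by
      simp only [b₄]
      linear_combination e6 + (r * W.a₄ + 0 - 2 * a * W.a₆) * h3
    have k4 : a * W.b₄ = r * W.b₂ := by
      simp only [b₄, b₂]
      linear_combination -e4 * 1 + (2 * a * W.a₄ - 2 * r * W.a₂ + 0) * h3
    rcases h with h | h
    · have ha : a = 0 := h.mul_left_eq_zero.1 k2
      subst ha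
      have hr : r = 0 := h.mul_left_eq_zero.1 (by linear_combination -k4)
      subst hr
      exact ⟨rfl, rfl, by ring, by ring⟩
    · have h4 : IsUnit W.b₄ := by
        refine isUnit_of_dvd_unit ⟨-8 * W.b₄ ^ 2, ?_⟩ hΔ
        simp only [WeierstrassCurve.Δ, h]
        linear_combination (-9 * W.b₆ ^ 2) * h3
      have hr : r = 0 := h4.mul_left_eq_zero.1 k6
      have ha : a = 0 := h4.mul_left_eq_zero.1 (by linear_combination k4 + r * h)
      subst ha hr
      exact ⟨rfl, rfl, by ring, by ring⟩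
  · have u2 : IsUnit (2 : Q) := isUnit_of_dvd_unit ⟨3, by norm_num⟩ h6
    have u1728 : IsUnit (1728 : Q) := by
      have : (1728 : Q) = 6 ^ 3 * 2 ^ 3 := by norm_num
      rw [this]; exact (h6.pow 3).mul (u2.pow 3)
    have k2 : 6 * r = a * W.b₂ := u2.mul_left_cancel (by
      simp only [b₂]; linear_combination -4 * e2 - 2 * W.a₁ * e1)
    have k4 : 4 * a * W.b₄ = r * W.b₂ := by
      simp only [b₄, b₂]
      linear_combination 2 * e4 + W.a₁ * e3 + W.a₃ * e1
    have k6 : 6 * a * W.b₆ = 2 * r * W.b₄ := by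
      simp only [b₆, b₄]
      linear_combination 4 * e6 + 2 * W.a₃ * e3
    have c4 : a * W.c₄ = 0 := by
      simp only [c₄]
      linear_combination -6 * k4 - W.b₂ * k2
    have c6 : 6 * (a * W.c₆) = 0 := by
      simp only [c₆]
      have c4' := c4
      simp only [c₄] at c4'
      linear_combination (54 * W.b₂) * k4 - 216 * k6 + (9 * W.b₂ ^ 2 - 72 * W.b₄) * k2 + 3 * W.b₂ * c4'
    have ha : a = 0 := (u1728.mul hΔ).mul_left_eq_zero.1 (h6.mul_right_eq_zero.1 (by
      linear_combination 6 * a * W.c_relation + 6 * W.c₄ ^ 2 * c4 - W.c₆ * c6))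
    subst ha
    have hr : r = 0 := h6.mul_right_eq_zero.1 (by linear_combination k2)
    subst hr
    have hs : s = 0 := u2.mul_right_eq_zero.1 (by linear_combination -e1)
    subst hs
    exact ⟨rfl, rfl, rfl, u2.mul_right_eq_zero.1 (by linear_combination -e3)⟩

end Groth.Agent.EllIso2
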